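import Mathlib
import Cfsg.Prelude.Def_BlockRank
import Cfsg.Agent.Lib.BrauerFeit.RegularPart
import Cfsg.Agent.Lib.BrauerFeit.Orth
import Cfsg.Agent.Lib.Blocks.BlockOrth
import Cfsg.Agent.Lib.HeightPSolv.Principal
import Cfsg.Agent.Lib.BrauerMap.Principal

/-!
# The `p`-regular rank of the principal block modulo a `p`-subgroup `Q` with `G = Q C_G(Q)`
-/

set_option autoImplicit false

namespace Cfsg.Agent.Lib.BrauerMap

open Cfsg
open Cfsg.Agent.Lib
open scoped ComplexConjugate

universe u

variable {G : Type u} [Group G] [Finite G] {p : ℕ} [Fact p.Prime] {M : Ideal AlgInt}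

/-- Central characters agreeing at the `p`-regular elements give the same block. -/
theorem sameBlock_of_agree_pRegular (hM : IsPModular p M) {χ ψ : IrrCharacter G}
    (h : ∀ g : G, IsPRegular p g →
      MemLocalIdeal M (centralChar (χ : G → ℂ) g - centralChar (ψ : G → ℂ) g)) :
    SameBlock M (χ : G → ℂ) (ψ : G → ℂ) := by
  classical
  haveI := hM.2.1.isPrime
  haveI := Fintype.ofFinite (ConjClasses G)
  have hB := Blocks.isPBlock_blockOf (M := M) χ
  have h1 : Blocks.omegaBar M ψ (Blocks.blockIdem M hB) =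
      Blocks.omegaBar M χ (Blocks.blockIdem M hB) := by
    rw [Blocks.omegaBar_eq_sum ψ, Blocks.omegaBar_eq_sum χ]
    refine Finset.sum_congr rfl fun c _ => ?_
    by_cases hc : IsPRegular p (Blocks.classRep c)
    · rw [(Blocks.omegaBar_eq_iff_of_classSum χ ψ _).mpr (h _ hc)]
    · have h0 : (Blocks.blockIdem M hB : MonoidAlgebra (Blocks.localRing M) G).coeff
          (Blocks.classRep c) = 0 := Subtype.ext (by
        rw [Blocks.coe_coeff_blockIdem, ZeroMemClass.coe_zero]
        exact Blocks.blockCoeff_eq_zero_of_pSingular hM hB (not_not.mp hc))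
      rw [h0, map_zero, zero_mul, zero_mul]
  rw [Blocks.omegaBar_blockIdem, Blocks.omegaBar_blockIdem, if_pos (Blocks.mem_blockOf_self χ)] at h1
  by_contra hne
  rw [if_neg (fun hm => hne (Blocks.mem_blockOf.mp hm))] at h1
  exact zero_ne_one h1

section Quotient

variable (Q : Subgroup G) [Q.Normal]

theorem mem_centralizer_of_pRegular (hQ : IsPGroup p Q)
    (hsup : Q ⊔ Subgroup.centralizer (Q : Set G) = ⊤) {g : G} (hg : IsPRegular p g) :
    g ∈ Subgroup.centralizer (Q : Set G) := by
  have hp := (Fact.out : p.Prime)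
  set C := Subgroup.centralizer (Q : Set G)
  have hq : IsPGroup p (G ⧸ C) := by
    refine hQ.of_surjective ((QuotientGroup.mk' C).comp Q.subtype) fun y => ?_
    obtain ⟨x, rfl⟩ := QuotientGroup.mk'_surjective C y
    obtain ⟨a, ha, b, hb, rfl⟩ := Subgroup.mem_sup_of_normal_left.mp (hsup ▸ Subgroup.mem_top x)
    exact ⟨⟨a, ha⟩, by simp [(QuotientGroup.eq_one_iff b).mpr hb]⟩
  obtain ⟨k, hk⟩ := IsPGroup.iff_orderOf.mp hq (g : G ⧸ C)
  rw [← QuotientGroup.eq_one_iff, ← orderOf_eq_one_iff]
  exact Nat.eq_one_of_dvd_coprimes ((hp.coprime_iff_not_dvd.mpr hg).pow_left k) (hk ▸ dvd_rfl)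
    (orderOf_map_dvd (QuotientGroup.mk' C) g)

variable {Q}

theorem eq_of_pRegular_of_mk_eq (hQ : IsPGroup p Q)
    (hsup : Q ⊔ Subgroup.centralizer (Q : Set G) = ⊤) {g g' : G} (hg : IsPRegular p g)
    (hg' : IsPRegular p g') (h : (g : G ⧸ Q) = g') : g = g' := by
  have hp := (Fact.out : p.Prime)
  have hu : g⁻¹ * g' ∈ Q := QuotientGroup.eq.mp h
  have hc : Commute g (g⁻¹ * g') :=
    (Subgroup.mem_centralizer_iff.mp (mem_centralizer_of_pRegular Q hQ hsup hg) _ hu).symm
  obtain ⟨k, hk⟩ := IsPGroup.iff_orderOf.mp hQ ⟨_, hu⟩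
  rw [← Subgroup.orderOf_coe] at hk
  have hdiv : orderOf (g⁻¹ * g') ∣ orderOf g' * orderOf g := by
    refine orderOf_dvd_of_pow_eq_one ?_
    have hpow : ∀ n : ℕ, g' ^ n = g ^ n * (g⁻¹ * g') ^ n := fun n => by
      rw [← hc.mul_pow, mul_inv_cancel_left]
    have h1 := hpow (orderOf g' * orderOf g)
    have hg1 : g ^ (orderOf g' * orderOf g) = 1 := orderOf_dvd_iff_pow_eq_one.mp (dvd_mul_left _ _)
    have hg2 : g' ^ (orderOf g' * orderOf g) = 1 := orderOf_dvd_iff_pow_eq_one.mp (dvd_mul_right _ _)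
    rw [hg1, hg2, one_mul] at h1
    exact h1.symm
  have h1 : orderOf (g⁻¹ * g') = 1 := Nat.eq_one_of_dvd_coprimes
    (((hp.coprime_iff_not_dvd.mpr hg').mul_right (hp.coprime_iff_not_dvd.mpr hg)).pow_left k)
    (hk ▸ dvd_rfl) hdiv
  exact inv_mul_eq_one.mp (orderOf_eq_one_iff.mp h1)

theorem exists_pRegular_lift (hQ : IsPGroup p Q) {q : G ⧸ Q} (hq : IsPRegular p q) :
    ∃ g : G, IsPRegular p g ∧ (g : G ⧸ Q) = q := by
  have hp := (Fact.out : p.Prime)
  obtain ⟨x, rfl⟩ := QuotientGroup.mk'_surjective Q q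
  set r := (orderOf x).factorization p
  obtain ⟨m, hm⟩ := exists_pow_eq_self_of_coprime
    ((hp.coprime_iff_not_dvd.mpr hq).pow_left r)
  refine ⟨(x ^ p ^ r) ^ m, fun hd => ?_, ?_⟩
  · have h1 := hd.trans (orderOf_pow_dvd m)
    rw [orderOf_pow, Nat.gcd_eq_right (Nat.ordProj_dvd _ p)] at h1
    exact Nat.not_dvd_ordCompl hp (orderOf_pos x).ne' h1
  · simpa using hm

theorem centralChar_inflate_eq (hQ : IsPGroup p Q)
    (hsup : Q ⊔ Subgroup.centralizer (Q : Set G) = ⊤) (f : G ⧸ Q → ℂ) {g : G}
    (hg : IsPRegular p g) :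
    centralChar (fun x : G => f (x : G ⧸ Q)) g = centralChar f (g : G ⧸ Q) := by
  have h1 : (Subgroup.centralizer ({(g : G ⧸ Q)} : Set (G ⧸ Q))).comap (QuotientGroup.mk' Q) =
      Subgroup.centralizer ({g} : Set G) := by
    ext x
    rw [Subgroup.mem_comap, Subgroup.mem_centralizer_singleton_iff,
      Subgroup.mem_centralizer_singleton_iff, QuotientGroup.mk'_apply, ← QuotientGroup.mk_mul,
      ← QuotientGroup.mk_mul]
    refine ⟨fun h => ?_, fun h => by rw [h]⟩
    have hconj : IsPRegular p (x * g * x⁻¹) := by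
      rwa [IsPRegular, show orderOf (x * g * x⁻¹) = orderOf g from
        orderOf_injective (MulAut.conj x).toMonoidHom (MulAut.conj x).injective g]
    have h2 : x * g * x⁻¹ = g := eq_of_pRegular_of_mk_eq hQ hsup hconj hg (by
      rw [QuotientGroup.mk_mul, h, ← QuotientGroup.mk_mul, mul_inv_cancel_right])
    exact mul_inv_eq_iff_eq_mul.mp h2
  simp only [centralChar, ← h1,
    Subgroup.index_comap_of_surjective _ (QuotientGroup.mk'_surjective Q), QuotientGroup.mk_one]

theorem inflate_mem_principalBlock_iff (hM : IsPModular p M) (hQ : IsPGroup p Q)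
    (hsup : Q ⊔ Subgroup.centralizer (Q : Set G) = ⊤) (ψ : IrrCharacter (G ⧸ Q)) :
    Chars.inflate Q ψ ∈ principalBlock M G ↔ ψ ∈ principalBlock M (G ⧸ Q) := by
  haveI := hM.2.1.isPrime
  constructor
  · intro h
    refine sameBlock_of_agree_pRegular hM (χ := Chars.trivialIrr (G ⧸ Q)) fun q hq => ?_
    obtain ⟨g, hg, rfl⟩ := exists_pRegular_lift hQ hq
    rw [← centralChar_inflate_eq hQ hsup _ hg, ← centralChar_inflate_eq hQ hsup _ hg]
    exact h g
  · intro h
    exact HeightPSolv.sameBlock_inflate Q h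

/-- The `p`-regular rank of the principal block is that of the quotient by `Q`. -/
theorem blockRank_principalBlock_quotient (hM : IsPModular p M) (hQ : IsPGroup p Q)
    (hsup : Q ⊔ Subgroup.centralizer (Q : Set G) = ⊤) :
    blockRank p (principalBlock M G) = blockRank p (principalBlock M (G ⧸ Q)) := by
  classical
  haveI := hM.2.1.isPrime
  cases nonempty_fintype G
  letI : Fintype (G ⧸ Q) := Fintype.ofFinite _
  let L : (G ⧸ Q → ℂ) →ₗ[ℂ] (G → ℂ) :=
    { toFun := fun F g => if IsPRegular p g then F (g : G ⧸ Q) else 0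
      map_add' := fun F F' => funext fun g => by simp only [Pi.add_apply]; split_ifs <;> simp
      map_smul' := fun c F => funext fun g => by
        simp only [Pi.smul_apply, RingHom.id_apply, smul_eq_mul]; split_ifs <;> simp }
  have hL : ∀ (F : G ⧸ Q → ℂ) (g : G),
      L F g = if IsPRegular p g then F (g : G ⧸ Q) else 0 := fun _ _ => rfl
  choose lift hlift using fun q : {q : G ⧸ Q // IsPRegular p q} => exists_pRegular_lift hQ q.2
  have hmk : ∀ g : G, IsPRegular p g → IsPRegular p (g : G ⧸ Q) := fun g hg hd =>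
    hg (hd.trans (orderOf_map_dvd (QuotientGroup.mk' Q) g))
  let R : (G → ℂ) →ₗ[ℂ] (G ⧸ Q → ℂ) :=
    { toFun := fun F q => if h : IsPRegular p q then F (lift ⟨q, h⟩) else 0
      map_add' := fun F F' => funext fun q => by simp only [Pi.add_apply]; split_ifs <;> simp
      map_smul' := fun c F => funext fun q => by
        simp only [Pi.smul_apply, RingHom.id_apply, smul_eq_mul]; split_ifs <;> simp }
  have hR : ∀ (F : G → ℂ) (g : G) (hg : IsPRegular p g), R F (g : G ⧸ Q) = F g := by
    intro F g hg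
    show (if h : IsPRegular p (g : G ⧸ Q) then F (lift ⟨_, h⟩) else 0) = F g
    rw [dif_pos (hmk g hg)]
    exact congrArg F (eq_of_pRegular_of_mk_eq hQ hsup (hlift _).1 hg (hlift _).2)
  have hRL : ∀ ψ : IrrCharacter (G ⧸ Q),
      R (pRegularPart p (Chars.inflate Q ψ : G → ℂ)) = pRegularPart p (ψ : G ⧸ Q → ℂ) := by
    intro ψ
    funext q
    by_cases hq : IsPRegular p q
    · obtain ⟨g, hg, rfl⟩ := exists_pRegular_lift hQ hq
      rw [hR _ _ hg]
      simp only [pRegularPart, if_pos hg, if_pos (hmk g hg)]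
      rfl
    · show (if h : IsPRegular p q then _ else 0) = _
      simp only [dif_neg hq, pRegularPart, if_neg hq]
  have hLR : ∀ ψ : IrrCharacter (G ⧸ Q),
      L (pRegularPart p (ψ : G ⧸ Q → ℂ)) = pRegularPart p (Chars.inflate Q ψ : G → ℂ) := by
    intro ψ
    funext g
    by_cases hg : IsPRegular p g
    · simp only [hL, pRegularPart, if_pos hg, if_pos (hmk g hg)]
      rfl
    · simp only [hL, pRegularPart, if_neg hg]
  set SQ := Submodule.span ℂ
    ((fun ψ : IrrCharacter (G ⧸ Q) => pRegularPart p (ψ : G ⧸ Q → ℂ)) ''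
      principalBlock M (G ⧸ Q)) with hSQ
  set SG := Submodule.span ℂ
    ((fun χ : IrrCharacter G => pRegularPart p (χ : G → ℂ)) '' principalBlock M G) with hSG
  have hQG : SQ.map L ≤ SG := by
    rw [hSQ, Submodule.map_span, Submodule.span_le]
    rintro _ ⟨_, ⟨ψ, hψ, rfl⟩, rfl⟩
    rw [SetLike.mem_coe, hLR]
    exact Submodule.subset_span ⟨_, (inflate_mem_principalBlock_iff hM hQ hsup ψ).mpr hψ, rfl⟩
  have horth := BrauerFeit.regOrth (G := G) hM
  have hGQ : SG ≤ SQ.map L := by
    rw [hSG, Submodule.span_le]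
    rintro _ ⟨χ, hχ, rfl⟩
    -- the class function of the quotient
    set f := R (pRegularPart p (χ : G → ℂ)) with hf
    have hfcls : IsClassFunction (G ⧸ Q) f := by
      intro q r
      by_cases hq : IsPRegular p q
      · obtain ⟨g, hg, rfl⟩ := exists_pRegular_lift hQ hq
        obtain ⟨x, rfl⟩ := QuotientGroup.mk'_surjective Q r
        have hg' : IsPRegular p (x * g * x⁻¹) := by
          rwa [IsPRegular, show orderOf (x * g * x⁻¹) = orderOf g from
            orderOf_injective (MulAut.conj x).toMonoidHom (MulAut.conj x).injective g]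
        rw [hf, QuotientGroup.mk'_apply, ← QuotientGroup.mk_mul, ← QuotientGroup.mk_inv,
          ← QuotientGroup.mk_mul, hR _ _ hg', hR _ _ hg]
        exact BrauerFeit.isClassFunction_pRegularPart p (Chars.irr_isClassFunction χ) g x
      · have hq' : ¬ IsPRegular p (r * q * r⁻¹) := by
          rwa [IsPRegular, show orderOf (r * q * r⁻¹) = orderOf q from
            orderOf_injective (MulAut.conj r).toMonoidHom (MulAut.conj r).injective q]
        show (if h : IsPRegular p (r * q * r⁻¹) then _ else 0) =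
          if h : IsPRegular p q then _ else 0
        rw [dif_neg hq, dif_neg hq']
    set c := fun ψ : IrrCharacter (G ⧸ Q) => classInner f (ψ : G ⧸ Q → ℂ)
    have hexp : pRegularPart p (χ : G → ℂ) =
        ∑ ψ : IrrCharacter (G ⧸ Q), c ψ • pRegularPart p (Chars.inflate Q ψ : G → ℂ) := by
      funext g
      simp only [Finset.sum_apply, Pi.smul_apply, smul_eq_mul]
      by_cases hg : IsPRegular p g
      · have h1 := Chars.isClassFunction_apply_eq_sum_classInner hfcls (g : G ⧸ Q)
        rw [← hR (pRegularPart p (χ : G → ℂ)) g hg, ← hf, h1]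
        refine Finset.sum_congr rfl fun ψ _ => ?_
        simp only [pRegularPart, if_pos hg]
        rfl
      · simp only [pRegularPart, if_neg hg, mul_zero, Finset.sum_const_zero]
    -- projection onto the principal block
    have hB := isPBlock_principalBlock (G := G) M
    let π : (G → ℂ) → (G → ℂ) := fun F =>
      ∑ η : IrrCharacter G, (if η ∈ principalBlock M G then classInner F (η : G → ℂ) else 0) •
        (η : G → ℂ)
    have hπin : ∀ η ∈ principalBlock M G,
        π (pRegularPart p (η : G → ℂ)) = pRegularPart p (η : G → ℂ) := by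
      intro η hη
      funext g
      rw [BrauerFeit.pRegularPart_eq_sum p η g]
      simp only [π, Finset.sum_apply, Pi.smul_apply, smul_eq_mul]
      refine Finset.sum_congr rfl fun ψ _ => ?_
      split_ifs with hψ
      · rfl
      · rw [BrauerFeit.regCoef_eq_zero_of_not_mem horth hB hη hψ]
    have hπout : ∀ η, η ∉ principalBlock M G → π (pRegularPart p (η : G → ℂ)) = 0 := by
      intro η hη
      refine Finset.sum_eq_zero fun ψ _ => ?_
      split_ifs with hψ
      · rw [show classInner (pRegularPart p (η : G → ℂ)) (ψ : G → ℂ) = 0 from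
          BrauerFeit.regCoef_eq_zero horth fun h => hη
            (Blocks.mem_of_sameBlock hB hψ (Blocks.sameBlock_symm h)), zero_smul]
      · rw [zero_smul]
    have hπadd : π (∑ ψ : IrrCharacter (G ⧸ Q), c ψ • pRegularPart p (Chars.inflate Q ψ : G → ℂ))
        = ∑ ψ : IrrCharacter (G ⧸ Q), c ψ • π (pRegularPart p (Chars.inflate Q ψ : G → ℂ)) := by
      simp only [π, Finset.smul_sum, smul_smul]
      rw [Finset.sum_comm]
      refine Finset.sum_congr rfl fun η _ => ?_
      rw [← Finset.sum_smul]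
      congr 1
      split_ifs with h
      · simp [Chars.classInner_sum_left, Chars.classInner_smul_left]
      · simp
    rw [SetLike.mem_coe]
    show pRegularPart p (χ : G → ℂ) ∈ _
    rw [← hπin χ hχ, hexp, hπadd]
    refine Submodule.sum_mem _ fun ψ _ => Submodule.smul_mem _ _ ?_
    by_cases hψ : Chars.inflate Q ψ ∈ principalBlock M G
    · rw [hπin _ hψ, ← hLR]
      exact Submodule.mem_map_of_mem (Submodule.subset_span
        ⟨ψ, (inflate_mem_principalBlock_iff hM hQ hsup ψ).mp hψ, rfl⟩)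
    · rw [hπout _ hψ]
      exact Submodule.zero_mem _
  have hQ2 : SQ ≤ SG.map R := by
    rw [hSQ, Submodule.span_le]
    rintro _ ⟨ψ, hψ, rfl⟩
    exact ⟨_, Submodule.subset_span
      ⟨_, (inflate_mem_principalBlock_iff hM hQ hsup ψ).mpr hψ, rfl⟩, hRL ψ⟩
  show Module.finrank ℂ SG = Module.finrank ℂ SQ
  exact le_antisymm ((Submodule.finrank_mono hGQ).trans (Submodule.finrank_map_le L SQ))
    ((Submodule.finrank_mono hQ2).trans (Submodule.finrank_map_le R SG))

end Quotient

end Cfsg.Agent.Lib.BrauerMap
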