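import Mathlib

/-!
# Sums over a set acted on by a `p`-group, modulo `p`
-/

set_option autoImplicit false

namespace Cfsg.Agent.Lib.BrauerMap

open MulAction

theorem dvd_card_orbit_of_not_fixed {P X : Type*} [Group P] [MulAction P X] [Finite X] {p : ℕ}
    [Fact p.Prime] (hP : IsPGroup p P) {x : X} (hx : x ∉ fixedPoints P X) :
    p ∣ Nat.card (orbit P x) := by
  obtain ⟨n, hn⟩ := hP.card_orbit x
  rcases Nat.eq_zero_or_pos n with rfl | hpos
  · exfalso
    apply hx
    intro a
    have h1 : Subsingleton (orbit P x) := (Nat.card_eq_one_iff_unique.mp (by simpa using hn)).1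
    exact congrArg Subtype.val
      (h1.elim (⟨a • x, mem_orbit x a⟩ : orbit P x) ⟨x, mem_orbit_self x⟩)
  · exact hn ▸ dvd_pow_self p hpos.ne'

/-- A sum of an invariant integral function is congruent mod `p` to the sum over fixed points. -/
theorem exists_sum_eq_sum_fixed_add {P X : Type*} [Group P] [MulAction P X] [Fintype X]
    [DecidablePred (· ∈ fixedPoints P X)] {p : ℕ} [Fact p.Prime] (hP : IsPGroup p P) (f : X → ℂ)
    (hinv : ∀ (a : P) (x : X), f (a • x) = f x) (hint : ∀ x, IsIntegral ℤ (f x)) :
    ∃ a : ℂ, IsIntegral ℤ a ∧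
      ∑ x, f x = ∑ x ∈ Finset.univ.filter (· ∈ fixedPoints P X), f x + (p : ℂ) * a := by
  classical
  let mk : X → orbitRel.Quotient P X := fun x => Quotient.mk'' x
  have hfib : ∀ (x y : X), mk y = mk x ↔ y ∈ orbit P x := fun x y => Quotient.eq''
  have key : ∀ ω : orbitRel.Quotient P X, ∃ a : ℂ, IsIntegral ℤ a ∧
      ∑ x ∈ Finset.univ.filter (fun x => mk x = ω), (if x ∈ fixedPoints P X then 0 else f x) =
        (p : ℂ) * a := by
    intro ω
    induction ω using Quotient.inductionOn' with
    | h x =>
      by_cases hx : x ∈ fixedPoints P X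
      · refine ⟨0, isIntegral_zero, ?_⟩
        rw [mul_zero]
        refine Finset.sum_eq_zero fun y hy => ?_
        obtain ⟨a, rfl⟩ := (hfib x y).mp (Finset.mem_filter.mp hy).2
        simp only [hx a, hx, if_true]
      · obtain ⟨c, hc⟩ := dvd_card_orbit_of_not_fixed hP hx
        refine ⟨(c : ℂ) * f x, (isIntegral_natCast c).mul (hint x), ?_⟩
        have h1 : ∀ y ∈ Finset.univ.filter (fun y => mk y = Quotient.mk'' x),
            (if y ∈ fixedPoints P X then (0 : ℂ) else f y) = f x := by
          intro y hy
          obtain ⟨a, rfl⟩ := (hfib x y).mp (Finset.mem_filter.mp hy).2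
          have hax : a • x ∉ fixedPoints P X := fun h => hx fun b => by
            have h1 := h a⁻¹
            rw [inv_smul_smul] at h1
            have h2 := h b
            rwa [← h1] at h2
          simp only [hax, if_false, hinv]
        have h2 : (Finset.univ.filter (fun y => mk y = Quotient.mk'' x)).card = Nat.card (orbit P x) := by
          rw [Nat.card_eq_fintype_card, ← Set.toFinset_card]
          congr 1
          ext y
          simpa [Set.mem_toFinset] using hfib x y
        rw [Finset.sum_congr rfl h1, Finset.sum_const, nsmul_eq_mul, h2, hc, Nat.cast_mul, mul_assoc]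
  choose a ha hsum using key
  refine ⟨∑ ω, a ω, IsIntegral.sum _ fun ω _ => ha ω, ?_⟩
  rw [Finset.mul_sum, ← Finset.sum_congr rfl fun ω _ => hsum ω,
    Finset.sum_fiberwise Finset.univ mk, Finset.sum_filter, ← Finset.sum_add_distrib]
  exact Finset.sum_congr rfl fun x _ => by split_ifs <;> simp

end Cfsg.Agent.Lib.BrauerMap
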