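import Mathlib
import Cfsg.Prelude.Def_Blocks
import Cfsg.Agent.Lib.Clifford.Basic
import Cfsg.Agent.Lib.Chars.Integral
import Cfsg.Agent.Lib.Chars.Completeness

/-!
# Sums of an irreducible representation over a normal subgroup; constituents of degree prime to p
-/

set_option autoImplicit false

namespace Cfsg.Agent.Lib.BrauerMap

open Cfsg
open Cfsg.Agent.Lib

variable {G V : Type*} [Group G] [AddCommGroup V] [Module ℂ V] [FiniteDimensional ℂ V]

theorem sum_rep_comm (ρ : Representation ℂ G V) (N : Subgroup G) [N.Normal] [Fintype N] (g : G) :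
    (∑ n : N, ρ n) * ρ g = ρ g * ∑ n : N, ρ n := by
  rw [Finset.sum_mul, Finset.mul_sum]
  refine Fintype.sum_equiv (MulAut.conjNormal g⁻¹ : MulAut N).toEquiv _ _ fun n => ?_
  rw [← map_mul, ← map_mul]
  congr 1
  simp [mul_assoc]

/-- Either a normal subgroup acts trivially, or the sum of its operators is zero. -/
theorem acts_trivially_or_sum_eq_zero (ρ : Representation ℂ G V) [ρ.IsIrreducible]
    (N : Subgroup G) [N.Normal] [Fintype N] :
    (∀ n : N, ρ n = 1) ∨ ∑ n : N, ρ n = 0 := by
  obtain ⟨c, hc⟩ := Clifford.schur_scalar ρ (∑ n : N, ρ n) (sum_rep_comm ρ N)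
  rcases eq_or_ne c 0 with h0 | h0
  · exact Or.inr (by rw [hc, h0, zero_smul])
  · refine Or.inl fun n => ?_
    have h : (∑ m : N, ρ m) * ρ n = ∑ m : N, ρ m := by
      rw [Finset.sum_mul]
      exact Fintype.sum_equiv (Equiv.mulRight n) _ _ fun m => by simp [map_mul]
    rw [hc, smul_mul_assoc, one_mul] at h
    exact smul_right_injective _ h0 h

theorem sum_character_mul (ρ : Representation ℂ G V) (N : Subgroup G) [Fintype N] (y : G) :
    ∑ n : N, ρ.character ((n : G) * y) = LinearMap.trace ℂ V ((∑ n : N, ρ n) * ρ y) := by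
  rw [Finset.sum_mul, map_sum]
  exact Finset.sum_congr rfl fun n _ => by rw [← map_mul]; rfl

theorem acts_trivially_of_sum_ne_zero (ρ : Representation ℂ G V) [ρ.IsIrreducible]
    (N : Subgroup G) [N.Normal] [Fintype N] (h : ∑ n : N, ρ.character (n : G) ≠ 0) (n : N) :
    ρ n = 1 := by
  refine (acts_trivially_or_sum_eq_zero ρ N).resolve_right (fun h0 => h ?_) n
  have := sum_character_mul ρ N 1
  simpa [h0] using this

theorem sum_character_mul_eq_zero (ρ : Representation ℂ G V) [ρ.IsIrreducible]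
    (N : Subgroup G) [N.Normal] [Fintype N] (h : ¬ ∀ n : N, ρ n = 1) (y : G) :
    ∑ n : N, ρ.character ((n : G) * y) = 0 := by
  rw [sum_character_mul, (acts_trivially_or_sum_eq_zero ρ N).resolve_left h, zero_mul, map_zero]

section Degree

theorem charDegree_of_eq_natCast {H : Type*} [Group H] {χ : H → ℂ} {n : ℕ} (h : χ 1 = n) :
    charDegree χ = n := by
  simp [charDegree, h]

theorem charDegree_cast {H : Type*} [Group H] {χ : H → ℂ} (h : IsCharacter H χ) :
    χ 1 = (charDegree χ : ℂ) := by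
  obtain ⟨n, hn⟩ := Chars.isCharacter_exists_degree h
  rw [charDegree_of_eq_natCast hn, hn]

/-- A character of degree prime to `p` has a constituent of degree prime to `p`. -/
theorem exists_constituent_not_dvd {H : Type*} [Group H] [Fintype H] {p : ℕ} {φ : H → ℂ}
    (hφ : IsCharacter H φ) {D : ℕ} (hD : φ 1 = D) (hp : ¬ p ∣ D) :
    ∃ χ : IrrCharacter H, classInner φ (χ : H → ℂ) ≠ 0 ∧ ¬ p ∣ charDegree (χ : H → ℂ) := by
  obtain ⟨m, hm⟩ := Chars.isCharacter_exists_nat_decomp hφ
  have h1 : (D : ℂ) = ∑ χ : IrrCharacter H, (m χ : ℂ) * (charDegree (χ : H → ℂ) : ℂ) := by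
    rw [← hD, hm]
    simp only [Finset.sum_apply, Pi.smul_apply, smul_eq_mul]
    exact Finset.sum_congr rfl fun χ _ => by rw [← charDegree_cast (Chars.irr_isCharacter χ)]
  have h2 : D = ∑ χ : IrrCharacter H, m χ * charDegree (χ : H → ℂ) := by exact_mod_cast h1
  by_contra hcon
  push Not at hcon
  refine hp (h2 ▸ Finset.dvd_sum fun χ _ => ?_)
  rcases eq_or_ne (m χ) 0 with h0 | h0
  · simp [h0]
  · refine dvd_mul_of_dvd_right (hcon χ ?_) _
    rw [hm, Chars.classInner_sum_smul_irr]
    exact_mod_cast h0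

theorem charDegree_irr_dvd_card {H : Type*} [Group H] [Finite H] (χ : IrrCharacter H) :
    charDegree (χ : H → ℂ) ∣ Nat.card H := by
  obtain ⟨n, -, hn, hd⟩ := Chars.irr_degree_dvd_card χ
  rwa [charDegree_of_eq_natCast hn]

end Degree

end Cfsg.Agent.Lib.BrauerMap
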